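import Cfsg.Agent.Lib.Schur.PSUSixTwo.Model

/-!
Kernel checks on the two commuting elements.
-/

set_option autoImplicit false
set_option maxRecDepth 100000
set_option maxHeartbeats 0

namespace CfsgLib.Schur.PSUSixTwo

open CfsgLib.Sporadic.CosetCert CfsgLib.Sporadic.CosetCert.FiP

theorem twistX_ok : twistK wordX wordXD = true := by decide +kernel

theorem twistY_ok : twistK wordY wordYD = true := by decide +kernel

/-- The image of a coset under a word. -/
noncomputable def cosW (L : List ℕ) (u : ℕ) : ℕ :=
  L.foldl (fun w x => FiData.table.img (rowU x) w) u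

theorem commute_ok : allBelow (fun p => Nat.beq (imgW (wordX ++ wordY) p) (imgW (wordY ++ wordX) p)) 694 = true := by
  decide +kernel

theorem lift_ok : Nat.blt movedPt FiData.table.N = true ∧ Nat.beq (cosW [0] movedPt) movedPt = false ∧
    Nat.beq (cosW (wordX ++ wordY) movedPt) (cosW (wordY ++ wordX) movedPt) = false ∧
    Nat.beq (cosW (wordXD ++ wordYD) movedPt) (cosW (wordYD ++ wordXD) movedPt) = true := by
  decide +kernel

theorem gen0_ok : allBelow (fun p => Nat.beq (FiUnitaryData.table.img 0 p) p) 694 = true := by decide +kernel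

end CfsgLib.Schur.PSUSixTwo
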