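import Cfsg.Agent.Lib.Schur.PSUSixTwo.Data2

/-!
Kernel checks for the 2-part of the multiplier of `PSU₆(2)`.
-/

set_option autoImplicit false
set_option maxRecDepth 100000
set_option maxHeartbeats 0
set_option Elab.async false

namespace CfsgLib.Schur.PSUSixTwo

open CfsgLib.Sporadic.OutCert

theorem chain2_ok : Tails.chainK 10 694 kk2 lev2 levW2 0 cert2.r (2 ^ 15) = true := by decide +kernel

theorem chain2in_ok : Tails.chainK 10 694 kk2 lev2In levW2In cert2.a cert2.r (2 ^ 10) = true := by decide +kernel

end CfsgLib.Schur.PSUSixTwo
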