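import Cfsg.Agent.Lib.Schur.PSUSixTwo.Data2

/-!
Kernel checks for the 2-part of the multiplier of `PSU₆(2)`.
-/

set_option autoImplicit false
set_option maxRecDepth 100000
set_option maxHeartbeats 0
set_option Elab.async false

namespace CfsgLib.Schur.PSUSixTwo

open CfsgLib.Sporadic.OutCert

theorem pick2_ok : Tails.pickK 10 694 slpTab2 ids2 kk2 = true ∧
    Tails.pickK 10 694 slpTab2 gids2 gk2 = true := by decide +kernel

theorem rels2_ok : Tails.relK 10 694 kk2 cert2 = true := by decide +kernel

theorem fus2_ok : Tails.fusK 10 694 kk2 gk2 cert2 = true := by decide +kernel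

end CfsgLib.Schur.PSUSixTwo
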