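import Cfsg.Agent.Lib.Schur.PSUSixTwo.Data2
import Cfsg.Agent.Lib.Schur.PSUSixTwo.Data

/-!
Kernel checks for the 2-part of the multiplier of `PSU₆(2)`.
-/

set_option autoImplicit false
set_option maxRecDepth 100000
set_option maxHeartbeats 0
set_option Elab.async false

namespace CfsgLib.Schur.PSUSixTwo

open CfsgLib.Sporadic.OutCert

theorem slp2_ok : Tails.slpK 10 694 9 slpTab2 slpW2 = true := by decide +kernel

theorem slp2_base : slpTab2.take 9 = baseK := by decide +kernel

end CfsgLib.Schur.PSUSixTwo
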