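import Cfsg.Agent.Lib.Schur.PSUSixTwo.Data3

/-!
Kernel checks for the 3-part of the multiplier of `PSU₆(2)`.
-/

set_option autoImplicit false
set_option maxRecDepth 100000
set_option maxHeartbeats 0
set_option Elab.async false

namespace CfsgLib.Schur.PSUSixTwo

open CfsgLib.Sporadic.OutCert

theorem pick3_ok : Tails.pickK 10 694 slpTab3 ids3 kk3 = true ∧
    Tails.pickK 10 694 slpTab3 gids3 gk3 = true := by decide +kernel

theorem rels3_ok : Tails.relK 10 694 kk3 cert3 = true := by decide +kernel

theorem fus3_ok : Tails.fusK 10 694 kk3 gk3 cert3 = true := by decide +kernel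

theorem chain3_ok : Tails.chainK 10 694 kk3 lev3 levW3 0 cert3.r (3 ^ 6) = true := by decide +kernel

theorem chain3in_ok : Tails.chainK 10 694 kk3 lev3In levW3In cert3.a cert3.r (3 ^ 3) = true := by decide +kernel

theorem cert3_eqs : cert3.eqsOK = true := by decide +kernel

theorem cert3_comb : cert3.combOK = true := by decide +kernel

theorem cert3_shape : cert3.shapeOK = true ∧ cert3.p = 3 ∧ cert3.r = 6 ∧ cert3.r - cert3.a = 3 ∧
    ¬ 3 ∣ cert3.m ∧ cert3.b = 3 ∧ ¬ 3 ^ (6 + 1) ∣ 9196830720 := by decide +kernel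

end CfsgLib.Schur.PSUSixTwo
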