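import Cfsg.Agent.Lib.Schur.PSUSixTwo.Data3
import Cfsg.Agent.Lib.Schur.PSUSixTwo.Data

/-!
Kernel checks for the 3-part of the multiplier of `PSU₆(2)`.
-/

set_option autoImplicit false
set_option maxRecDepth 100000
set_option maxHeartbeats 0
set_option Elab.async false

namespace CfsgLib.Schur.PSUSixTwo

open CfsgLib.Sporadic.OutCert

theorem slp3_ok : Tails.slpK 10 694 9 slpTab3 slpW3 = true := by decide +kernel

theorem slp3_base : slpTab3.take 9 = baseK := by decide +kernel

theorem ord_ok : Tails.pickK 10 694 slpTab3 ordIds ordK = true ∧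
    ((List.range 3).all fun i => testK 10 694 [ordK.getD i 0] ([5, 7, 11].getD i 0) &&
      !(ordK.getD i 0 == oneK 10 694) && ordK.getD i 0 == pkF 10 (lk 10 (ordK.getD i 0)) 694 0) = true ∧
    ordK.length = 3 := by decide +kernel

end CfsgLib.Schur.PSUSixTwo
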