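import Cfsg.Agent.Lib.Schur.PSUSixTwo.Check
import Cfsg.Agent.Lib.Schur.Basic
import Cfsg.Agent.Lib.Classical.HermMatrixSimple
import Cfsg.Agent.Lib.Classical.AschPrime.UnitaryGroup

/-!
The cover of `PSU₆(2)` with kernel `3 × 2 × 2`: the special unitary group beside two double covers.
-/

set_option autoImplicit false
set_option maxRecDepth 100000

namespace CfsgLib.Schur.PSUSixTwo

open CfsgLib.Sporadic.CosetCert CfsgLib.Sporadic.CosetCert.FiP Cfsg.Spor Matrix
open scoped commutatorElement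

attribute [local irreducible] vecPt ptVec matU pointOf rowU wordX wordY wordXD wordYD cosW imgW

/-- Two double covers and the triple cover. -/
abbrev Big : Type := ↥grpH × ↥grpH × SU6

/-- The first double cover. -/
noncomputable def prA : Big →* ↥grpH := MonoidHom.fst _ _

/-- The second double cover. -/
noncomputable def prB : Big →* ↥grpH := (MonoidHom.fst _ _).comp (MonoidHom.snd _ _)

/-- The projection to the simple group through the unitary group. -/
noncomputable def prQ : Big →* G :=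
  (QuotientGroup.mk' (Subgroup.center SU6)).comp ((MonoidHom.snd _ _).comp (MonoidHom.snd _ _))

/-- The fibre product. -/
noncomputable abbrev Gam : Subgroup Big :=
  (toPSU6.comp prA).eqLocus prQ ⊓ (toPSU6.comp prB).eqLocus (tauQ.comp prQ)

/-- The projection. -/
noncomputable def sigma : Gam →* G := prQ.comp Gam.subtype

theorem mem_gam {a b : ↥grpH} {M : SU6} (ha : toPSU6 a = QuotientGroup.mk M)
    (hb : toPSU6 b = tauQ (QuotientGroup.mk M)) : ((a, b, M) : Big) ∈ Gam := ⟨ha, hb⟩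

theorem gam_spec (π : Gam) : toPSU6 (π : Big).1 = QuotientGroup.mk (π : Big).2.2 ∧
    toPSU6 (π : Big).2.1 = tauQ (QuotientGroup.mk (π : Big).2.2) := π.2

theorem exists_lift (M : SU6) : ∃ π : Gam, (π : Big).2.2 = M := by
  obtain ⟨a, ha⟩ := toPSU6_surjective (QuotientGroup.mk M)
  obtain ⟨b, hb⟩ := toPSU6_surjective (tauQ (QuotientGroup.mk M))
  exact ⟨⟨(a, b, M), mem_gam ha hb⟩, rfl⟩

theorem sigma_surjective : Function.Surjective sigma := by
  intro g
  induction g using QuotientGroup.induction_on with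
  | _ M =>
  obtain ⟨π, h⟩ := exists_lift M
  exact ⟨π, show QuotientGroup.mk (π : Big).2.2 = _ by rw [h]⟩

theorem mem_ker_iff (π : Gam) : π ∈ sigma.ker ↔ (π : Big).1 ∈ toPSU6.ker ∧ (π : Big).2.1 ∈ toPSU6.ker ∧
    (π : Big).2.2 ∈ Subgroup.center SU6 := by
  obtain ⟨h1, h2⟩ := gam_spec π
  rw [MonoidHom.mem_ker, MonoidHom.mem_ker, MonoidHom.mem_ker, h1, h2,
    ← QuotientGroup.eq_one_iff (N := Subgroup.center SU6) (π : Big).2.2]
  show (QuotientGroup.mk (π : Big).2.2 : G) = 1 ↔ _
  exact ⟨fun h => by rw [h, map_one]; exact ⟨rfl, rfl, rfl⟩, fun h => h.1⟩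

theorem ker_le_center : sigma.ker ≤ Subgroup.center Gam := by
  intro π hπ
  obtain ⟨h1, h2, h3⟩ := (mem_ker_iff π).1 hπ
  rw [← centerU_eq] at h1 h2
  exact Subgroup.mem_center_iff.2 fun g => Subtype.ext (Prod.ext (Subgroup.mem_center_iff.1 h1 _)
    (Prod.ext (Subgroup.mem_center_iff.1 h2 _) (Subgroup.mem_center_iff.1 h3 _)))

theorem kerMem (v : ↥(Subgroup.center SU6) × ↥toPSU6.ker × ↥toPSU6.ker) :
    ((v.2.1.1, v.2.2.1, v.1.1) : Big) ∈ Gam := by
  have h : QuotientGroup.mk (v.1 : SU6) = (1 : G) := (QuotientGroup.eq_one_iff _).2 v.1.2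
  refine mem_gam ?_ ?_
  · rw [h]; exact v.2.1.2
  · rw [h, map_one]; exact v.2.2.2

/-- The kernel as a product. -/
noncomputable def kerSplit : sigma.ker ≃* ↥(Subgroup.center SU6) × ↥toPSU6.ker × ↥toPSU6.ker where
  toFun π := (⟨_, ((mem_ker_iff π.1).1 π.2).2.2⟩, ⟨_, ((mem_ker_iff π.1).1 π.2).1⟩,
    ⟨_, ((mem_ker_iff π.1).1 π.2).2.1⟩)
  invFun v := ⟨⟨_, kerMem v⟩, (mem_ker_iff _).2 ⟨v.2.1.2, v.2.2.2, v.1.2⟩⟩
  left_inv _ := rfl
  right_inv _ := rfl
  map_mul' _ _ := rfl

theorem card_two : Nat.card ↥toPSU6.ker = 2 := by rw [toPSU6_ker]; exact card_ker_actU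

theorem card_three : Nat.card ↥(Subgroup.center SU6) = 3 := by
  rw [CfsgLib.Classical.card_center_SU (F := F4) (q := 2)
    (CfsgLib.Sporadic.FieldFour.card_eq.trans (by norm_num)) (by norm_num)]
  rfl

/-- The multiplier. -/
abbrev Mult : Type := Multiplicative (ZMod 3 × ZMod 2 × ZMod 2)

/-- The kernel is the multiplier. -/
noncomputable def kerEquiv : sigma.ker ≃* Mult :=
  haveI := Fact.mk Nat.prime_two
  haveI := Fact.mk Nat.prime_three
  let e2 : ↥toPSU6.ker ≃* Multiplicative (ZMod 2) := mulEquivOfPrimeCardEq (p := 2) card_two (by simp)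
  let e3 : ↥(Subgroup.center SU6) ≃* Multiplicative (ZMod 3) :=
    mulEquivOfPrimeCardEq (p := 3) card_three (by simp)
  (kerSplit.trans (e3.prodCongr (e2.prodCongr e2))).trans
    (((MulEquiv.refl _).prodCongr (MulEquiv.prodMultiplicative _ _).symm).trans
      (MulEquiv.prodMultiplicative _ _).symm)

theorem commutator_SU6 : commutator SU6 = ⊤ := by
  have hF : Fintype.card F4 = 2 ^ 2 := CfsgLib.Sporadic.FieldFour.card_eq.trans (by norm_num)
  obtain ⟨σ, hσ, hc⟩ := CfsgLib.Classical.exists_frob hF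
  have hB := CfsgLib.Classical.stdHerm_isHermitian hc 6
  have hp := hB.sIsom_perfect (CfsgLib.Classical.stdHerm_sepRight 6)
    (Or.inr (by rw [Module.finrank_fintype_fun_eq_card, Fintype.card_fin]; norm_num))
  rw [_root_.commutator_def] at hp ⊢
  have := congrArg (Subgroup.map (CfsgLib.Classical.suEquiv (n := 6) hσ).symm.toMonoidHom) hp
  rw [Subgroup.map_commutator, ← MonoidHom.range_eq_map,
    MonoidHom.range_eq_top.2 (CfsgLib.Classical.suEquiv (n := 6) hσ).symm.surjective] at this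
  exact this

theorem commutator_grpH : commutator ↥grpH = ⊤ := by
  have hG : commutator G = ⊤ := by
    have := congrArg (Subgroup.map (QuotientGroup.mk' (Subgroup.center SU6)))
      (_root_.commutator_def SU6 ▸ commutator_SU6)
    rw [Subgroup.map_commutator, ← MonoidHom.range_eq_map,
      MonoidHom.range_eq_top.2 (QuotientGroup.mk'_surjective _)] at this
    exact this
  have hz : ∀ g : ↥grpH, ∃ k ∈ toPSU6.ker, ∃ d ∈ commutator ↥grpH, g = d * k := by
    intro g
    obtain ⟨d, hd, e⟩ : toPSU6 g ∈ (commutator ↥grpH).map toPSU6 := by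
      rw [_root_.commutator_def, Subgroup.map_commutator, ← MonoidHom.range_eq_map,
        MonoidHom.range_eq_top.2 toPSU6_surjective, ← _root_.commutator_def, hG]
      exact Subgroup.mem_top _
    exact ⟨d⁻¹ * g, by rw [MonoidHom.mem_ker, map_mul, map_inv, e, inv_mul_cancel], d, hd,
      (mul_inv_cancel_left d g).symm⟩
  by_contra hne
  have hidx : (commutator ↥grpH).index ∣ 2 := by
    have hs : Function.Surjective ((QuotientGroup.mk' (commutator ↥grpH)).comp toPSU6.ker.subtype) := by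
      intro q
      induction q using QuotientGroup.induction_on with
      | _ g =>
      obtain ⟨k, hk, d, hd, e⟩ := hz g
      refine ⟨⟨k, hk⟩, QuotientGroup.eq.2 ?_⟩
      show k⁻¹ * g ∈ commutator ↥grpH
      rw [e, show k⁻¹ * (d * k) = k⁻¹ * d * k⁻¹⁻¹ by rw [inv_inv, mul_assoc]]
      exact Subgroup.Normal.conj_mem inferInstance d hd _
    rw [Subgroup.index_eq_card, ← card_two]
    exact Subgroup.card_dvd_of_surjective _ hs
  rcases (Nat.dvd_prime Nat.prime_two).1 hidx with h | h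
  · exact hne (Subgroup.index_eq_one.1 h)
  · have : Fact (Nat.Prime 2) := ⟨Nat.prime_two⟩
    let E : (↥grpH ⧸ commutator ↥grpH) ≃* Multiplicative (ZMod 2) :=
      mulEquivOfPrimeCardEq (p := 2) h (by simp)
    refine hne (eq_top_iff.2 fun g _ => (QuotientGroup.eq_one_iff _).1 (E.map_eq_one_iff.1 ?_))
    exact hom_two_trivial (E.toMonoidHom.comp (QuotientGroup.mk' _)) g

theorem mem_derived_image {H : Type*} [Group H] (f : Gam →* H) (hf : Function.Surjective f)
    (hH : commutator H = ⊤) (h : H) : ∃ d ∈ commutator Gam, f d = h := by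
  have : h ∈ (commutator Gam).map f := by
    rw [_root_.commutator_def, Subgroup.map_commutator, ← MonoidHom.range_eq_map,
      MonoidHom.range_eq_top.2 hf, ← _root_.commutator_def, hH]
    exact Subgroup.mem_top _
  exact this

/-- The central involution. -/
noncomputable def invol : ↥grpH := genU 0

theorem cosW_spec {L : List ℕ} (h : ∀ x ∈ L, x < 9) (u : Fin FiData.table.N) :
    ((hom ((appProd genU L : ↥grpH) : Fi22) u : Fin FiData.table.N) : ℕ) = cosW L u := by
  rw [hom_wordU L h u, cosW]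

theorem invol_spec : invol ∈ toPSU6.ker ∧ invol ≠ 1 := by
  obtain ⟨hlt, h0, -, -⟩ := lift_ok
  simp only [Nat.blt_eq] at hlt
  constructor
  · rw [MonoidHom.mem_ker]
    refine psi_injective (Equiv.ext fun p => Fin.ext ?_)
    rw [map_one, psi_toPSU6, invol, actU_acts.img_eq 0 (by decide +kernel) p]
    exact Nat.eq_of_beq_eq_true (of_allBelow gen0_ok p (lt_of_lt_of_eq p.2 rfl))
  · intro e
    have := cosW_spec (L := [0]) (by simp) ⟨movedPt, hlt⟩
    rw [show appProd genU [0] = invol from one_mul _, e, Subgroup.coe_one, map_one] at this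
    have h1 : Nat.beq (cosW [0] movedPt) movedPt = true := Nat.beq_eq ▸ this.symm
    rw [h0] at h1
    exact Bool.noConfusion h1

theorem ker_cases {a : ↥grpH} (ha : a ∈ toPSU6.ker) : a = 1 ∨ a = invol := by
  obtain ⟨w, -, hu⟩ := (Nat.card_eq_two_iff' (1 : toPSU6.ker)).1 card_two
  by_cases h : a = 1
  · exact Or.inl h
  · refine Or.inr (congrArg Subtype.val ((hu ⟨a, ha⟩ fun e => h (congrArg Subtype.val e)).trans
      (hu ⟨invol, invol_spec.1⟩ fun e => invol_spec.2 (congrArg Subtype.val e)).symm))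

theorem commutator_value {Lx Ly : List ℕ} (hx : ∀ x ∈ Lx, x < 9) (hy : ∀ x ∈ Ly, x < 9)
    (hc : ⁅appProd genU Lx, appProd genU Ly⁆ ∈ toPSU6.ker) :
    ⁅appProd genU Lx, appProd genU Ly⁆ = if Nat.beq (cosW (Lx ++ Ly) movedPt) (cosW (Ly ++ Lx) movedPt) then 1
      else invol := by
  obtain ⟨hlt, h0, -, -⟩ := lift_ok
  simp only [Nat.blt_eq] at hlt
  have e1 := cosW_spec (L := Lx ++ Ly) (fun x h => (List.mem_append.1 h).elim (hx x) (hy x)) ⟨movedPt, hlt⟩
  have e2 := cosW_spec (L := Ly ++ Lx) (fun x h => (List.mem_append.1 h).elim (hy x) (hx x)) ⟨movedPt, hlt⟩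
  rw [appProd_append] at e1 e2
  set a := appProd genU Lx
  set b := appProd genU Ly
  rcases ker_cases hc with h | h
  · have hab : a * b = b * a := commutatorElement_eq_one_iff_mul_comm.1 h
    rw [h, if_pos]
    rw [hab] at e2
    rw [← e1, ← e2]
    exact Nat.beq_refl _
  · rw [h, if_neg]
    intro hb
    have hpt : hom ((b * a : ↥grpH) : Fi22) ⟨movedPt, hlt⟩ = hom ((a * b : ↥grpH) : Fi22) ⟨movedPt, hlt⟩ :=
      Fin.ext (by rw [e1, e2]; exact Nat.eq_of_beq_eq_true hb)
    have e3 := cosW_spec (L := [0]) (by simp) ⟨movedPt, hlt⟩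
    rw [show appProd genU [0] = invol from one_mul _] at e3
    rw [show a * b = invol * (b * a) by rw [← h, commutatorElement_def]; group,
      Subgroup.coe_mul grpH invol (b * a), map_mul, Equiv.Perm.mul_apply] at hpt
    have hz : invol ∈ Subgroup.center ↥grpH := centerU_eq ▸ invol_spec.1
    have hc' : hom (invol : Fi22) (hom ((b * a : ↥grpH) : Fi22) ⟨movedPt, hlt⟩) =
        hom ((b * a : ↥grpH) : Fi22) (hom (invol : Fi22) ⟨movedPt, hlt⟩) := by
      rw [← Equiv.Perm.mul_apply, ← Equiv.Perm.mul_apply, ← map_mul, ← map_mul, ← Subgroup.coe_mul,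
        ← Subgroup.coe_mul, Subgroup.mem_center_iff.1 hz]
    rw [hc'] at hpt
    have := congrArg Fin.val ((hom ((b * a : ↥grpH) : Fi22)).injective hpt)
    rw [e3] at this
    have h1 : Nat.beq (cosW [0] movedPt) movedPt = true := Nat.beq_eq ▸ this.symm
    rw [h0] at h1
    exact Bool.noConfusion h1

theorem word_lt : (∀ x ∈ wordX, x < 9) ∧ (∀ x ∈ wordY, x < 9) ∧ (∀ x ∈ wordXD, x < 9) ∧
    (∀ x ∈ wordYD, x < 9) := by
  have hX := twistX_ok
  have hY := twistY_ok
  simp only [twistK, Bool.and_eq_true, List.all_eq_true, Nat.blt_eq] at hX hY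
  exact ⟨hX.1.1, hY.1.1, hX.1.2, hY.1.2⟩

/-- The first element of the witness. -/
noncomputable def elX : Gam :=
  ⟨_, mem_gam (toPSU6_word wordX word_lt.1) (twist_of_check twistX_ok)⟩

/-- The second element of the witness. -/
noncomputable def elY : Gam :=
  ⟨_, mem_gam (toPSU6_word wordY word_lt.2.1) (twist_of_check twistY_ok)⟩

theorem witness : ⁅elX, elY⁆ ∈ sigma.ker ∧ ((⁅elX, elY⁆ : Gam) : Big).1 = invol ∧
    ((⁅elX, elY⁆ : Gam) : Big).2.1 = 1 := by
  obtain ⟨lX, lY, lXD, lYD⟩ := word_lt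
  obtain ⟨-, -, h1, h2⟩ := lift_ok
  have hs : sigma ⁅elX, elY⁆ = 1 := by
    rw [map_commutatorElement, commutatorElement_eq_one_iff_mul_comm]
    show QuotientGroup.mk (appProd suGen wordX) * QuotientGroup.mk (appProd suGen wordY) =
      QuotientGroup.mk (appProd suGen wordY) * QuotientGroup.mk (appProd suGen wordX)
    rw [← toPSU6_word _ lX, ← toPSU6_word _ lY, ← map_mul, ← map_mul, ← appProd_append, ← appProd_append]
    refine psi_injective (Equiv.ext fun p => Fin.ext ?_)
    rw [psi_word _ (fun x h => (List.mem_append.1 h).elim (lY x) (lX x)),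
      psi_word _ (fun x h => (List.mem_append.1 h).elim (lX x) (lY x))]
    exact (Nat.eq_of_beq_eq_true (of_allBelow commute_ok p (lt_of_lt_of_eq p.2 rfl))).symm
  have hk := (mem_ker_iff _).1 (MonoidHom.mem_ker.2 hs)
  have eA : ((⁅elX, elY⁆ : Gam) : Big).1 = ⁅appProd genU wordX, appProd genU wordY⁆ := rfl
  have eB : ((⁅elX, elY⁆ : Gam) : Big).2.1 = ⁅appProd genU wordXD, appProd genU wordYD⁆ := rfl
  refine ⟨MonoidHom.mem_ker.2 hs, ?_, ?_⟩
  · rw [eA, commutator_value lX lY (eA ▸ hk.1), if_neg (by rw [h1]; exact Bool.false_ne_true)]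
  · rw [eB, commutator_value lXD lYD (eB ▸ hk.2.1), if_pos h2]

theorem pow_mul_eq {H : Type*} [Group H] {x : H} {m n k : ℕ} (h : x ^ m = 1) (hn : n = m * k + 1) : x ^ n = x := by
  rw [hn, pow_succ, pow_mul, h, one_pow, one_mul]

theorem ker_pow_two {a : ↥grpH} (ha : a ∈ toPSU6.ker) : a ^ 2 = 1 := by
  have h : (⟨a, ha⟩ : toPSU6.ker) ^ Nat.card toPSU6.ker = 1 := pow_card_eq_one'
  rw [card_two] at h
  exact congrArg Subtype.val h

theorem center_pow_three {M : SU6} (hM : M ∈ Subgroup.center SU6) : M ^ 3 = 1 := by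
  have h : (⟨M, hM⟩ : Subgroup.center SU6) ^ Nat.card (Subgroup.center SU6) = 1 := pow_card_eq_one'
  rw [card_three] at h
  exact congrArg Subtype.val h

theorem ker_le_commutator : sigma.ker ≤ commutator Gam := by
  obtain ⟨hwk, hwa, hwb⟩ := witness
  have hwm := ((mem_ker_iff _).1 hwk).2.2
  -- the first involution
  have h1 : ∃ d ∈ commutator Gam, (d : Big) = (invol, 1, 1) := by
    refine ⟨⁅elX, elY⁆ ^ 3, pow_mem (Subgroup.commutator_mem_commutator (Subgroup.mem_top elX) (Subgroup.mem_top elY)) 3, ?_⟩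
    rw [Subgroup.coe_pow]
    exact Prod.ext ((congrArg (· ^ 3) hwa).trans (pow_mul_eq (k := 1) (ker_pow_two invol_spec.1) rfl))
      (Prod.ext ((congrArg (· ^ 3) hwb).trans (one_pow 3)) (center_pow_three hwm))
  -- the second involution
  have h2 : ∃ d ∈ commutator Gam, (d : Big) = (1, invol, 1) := by
    obtain ⟨d, hd, hdb⟩ := mem_derived_image (prB.comp Gam.subtype) (fun b => by
      obtain ⟨q, hq⟩ := tauQ_bijective.2 (toPSU6 b)
      obtain ⟨M, rfl⟩ := QuotientGroup.mk_surjective q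
      obtain ⟨a, ha⟩ := toPSU6_surjective (QuotientGroup.mk M)
      exact ⟨⟨(a, b, M), mem_gam ha hq.symm⟩, rfl⟩) commutator_grpH invol
    have hM : (d : Big).2.2 ∈ Subgroup.center SU6 := by
      have e := (gam_spec d).2
      rw [show (d : Big).2.1 = invol from hdb, MonoidHom.mem_ker.1 invol_spec.1] at e
      exact (QuotientGroup.eq_one_iff _).1 (tauQ_bijective.1 (e.symm.trans (map_one tauQ).symm))
    have ha : (d : Big).1 ∈ toPSU6.ker := by
      rw [MonoidHom.mem_ker, (gam_spec d).1]; exact (QuotientGroup.eq_one_iff _).2 hM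
    have hd3 : ((d ^ 3 : Gam) : Big) = ((d : Big).1, invol, 1) := by
      rw [Subgroup.coe_pow]
      exact Prod.ext (pow_mul_eq (k := 1) (ker_pow_two ha) rfl)
        (Prod.ext ((congrArg (· ^ 3) hdb).trans (pow_mul_eq (k := 1) (ker_pow_two invol_spec.1) rfl))
          (center_pow_three hM))
    rcases ker_cases ha with e | e
    · exact ⟨d ^ 3, pow_mem hd 3, by rw [hd3, e]⟩
    · obtain ⟨c, hc, ec⟩ := h1
      refine ⟨d ^ 3 * c, mul_mem (pow_mem hd 3) hc, ?_⟩
      rw [Subgroup.coe_mul, hd3, ec, e]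
      exact Prod.ext ((pow_two invol).symm.trans (ker_pow_two invol_spec.1))
        (Prod.ext (mul_one _) (mul_one _))
  intro π hπ
  obtain ⟨ka, kb, kc⟩ := (mem_ker_iff π).1 hπ
  obtain ⟨d, hd, hdM⟩ := mem_derived_image
    ((MonoidHom.snd _ _).comp ((MonoidHom.snd ↥grpH _).comp Gam.subtype)) exists_lift commutator_SU6 (π : Big).2.2
  change (d : Big).2.2 = (π : Big).2.2 at hdM
  have hdk : d ∈ sigma.ker := MonoidHom.mem_ker.2 (((QuotientGroup.eq_one_iff (N := Subgroup.center SU6) (d : Big).2.2).2 (by rw [hdM]; exact kc)))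
  obtain ⟨da, db, -⟩ := (mem_ker_iff d).1 hdk
  have hd4 : ((d ^ 4 : Gam) : Big) = (1, 1, (π : Big).2.2) := by
    rw [Subgroup.coe_pow]
    refine Prod.ext ?_ (Prod.ext ?_ ?_)
    · show (d : Big).1 ^ 4 = 1
      rw [show 4 = 2 * 2 from rfl, pow_mul, ker_pow_two da, one_pow]
    · show (d : Big).2.1 ^ 4 = 1
      rw [show 4 = 2 * 2 from rfl, pow_mul, ker_pow_two db, one_pow]
    · show (d : Big).2.2 ^ 4 = _
      rw [hdM]
      exact pow_mul_eq (k := 1) (center_pow_three kc) rfl
  have pick : ∀ {a : ↥grpH} (f : ↥grpH → Big), a ∈ toPSU6.ker → (f 1 = 1) →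
      (∃ e ∈ commutator Gam, (e : Big) = f invol) → ∃ e ∈ commutator Gam, (e : Big) = f a := by
    intro a f ha h1' he
    rcases ker_cases ha with rfl | rfl
    · exact ⟨1, one_mem _, h1'.symm⟩
    · exact he
  obtain ⟨e1, he1, ee1⟩ := pick (fun a => (a, 1, 1)) ka rfl h1
  obtain ⟨e2, he2, ee2⟩ := pick (fun b => (1, b, 1)) kb rfl h2
  have : π = e1 * e2 * d ^ 4 := Subtype.ext (by
    rw [Subgroup.coe_mul, Subgroup.coe_mul, ee1, ee2, hd4]
    exact Prod.ext (by simp) (Prod.ext (by simp) (by simp)))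
  rw [this]
  exact mul_mem (mul_mem he1 he2) (pow_mem hd 4)

theorem isStem : Cfsg.IsStemExtension sigma := ⟨sigma_surjective, ker_le_center, ker_le_commutator⟩

end CfsgLib.Schur.PSUSixTwo
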