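import Cfsg.Agent.Lib.Schur.PSUSixTwo.Cover
import Cfsg.Agent.Lib.Schur.PSUSixTwo.Check2Slp
import Cfsg.Agent.Lib.Schur.PSUSixTwo.Check2Rels
import Cfsg.Agent.Lib.Schur.PSUSixTwo.Check2Chain
import Cfsg.Agent.Lib.Schur.PSUSixTwo.Check2Cert
import Cfsg.Agent.Lib.Schur.PSUSixTwo.Check3Slp
import Cfsg.Agent.Lib.Schur.PSUSixTwo.Check3
import Cfsg.Agent.Lib.Chevalley.G2Two.Transfer
import Cfsg.Agent.Lib.Schur.TailsBoundTwo

/-!
The multiplier of `PSU₆(2)` is `3 × 2 × 2`.
-/

set_option autoImplicit false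
set_option maxRecDepth 100000

namespace CfsgLib.Schur.PSUSixTwo

open CfsgLib.Sporadic.CosetCert CfsgLib.Sporadic.CosetCert.FiP CfsgLib.Sporadic.OutCert

attribute [local irreducible] lk pkF CfsgLib.Sporadic.OutCert.allF compK slpTab2 slpTab3 kk2 kk3 gk2 gk3 ordK baseK vecPt ptVec
  matU pointOf rowU lev2 lev2In lev3 lev3In cert2 cert3 second2

theorem base_ok : allBelow (fun i => allBelow (fun p =>
    Nat.beq (lk 10 (baseK.getD i 0) p) (FiUnitaryData.table.img i p)) 694) 9 = true := by decide +kernel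

theorem base_len : baseK.length = 9 := by decide +kernel

theorem nl_eq : FiUnitaryData.table.nl = 9 := by decide +kernel

/-- The action on the points, with the number of points written out. -/
noncomputable def psiN : G →* Equiv.Perm (Fin 694) := psi

theorem psiN_injective : Function.Injective psiN := psi_injective

theorem hw : 694 ≤ 2 ^ 10 := by norm_num

theorem base_rep (i : ℕ) (hi : i < 9) : Rep 10 694 (baseK.getD i 0) (psiN (QuotientGroup.mk (suGen i))) := by
  intro p
  have h := Nat.eq_of_beq_eq_true (of_allBelow (of_allBelow base_ok i hi) p p.2)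
  rw [h, ← toPSU6_gen i hi]
  show _ = (psi (toPSU6 (genU i)) p : ℕ)
  rw [psi_toPSU6 (genU i), actU_acts.img_eq i (by rw [nl_eq]; exact hi) p]

theorem base_mem {tab : List ℕ} (h : tab.take 9 = baseK) :
    ∀ i < 9, ∃ q : G, Rep 10 694 (tab.getD i (oneK 10 694)) (psiN q) := by
  intro i hi
  refine ⟨QuotientGroup.mk (suGen i), ?_⟩
  have hl : i < baseK.length := by rw [base_len]; exact hi
  have e : tab.getD i (oneK 10 694) = (tab.take 9).getD i (oneK 10 694) := by
    simp [List.getD_eq_getElem?_getD, hi]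
  rw [e, h, List.getD_eq_getElem _ _ hl, ← List.getD_eq_getElem _ 0 hl]
  exact base_rep i hi

theorem factorization_two (Γ : Type) [Group Γ] [Finite Γ] (σ : Γ →* G) (hσ : Cfsg.IsStemExtension σ) :
    (Nat.card σ.ker).factorization 2 ≤ (2 * 2 : ℕ).factorization 2 := by
  haveI := Fact.mk Nat.prime_two
  haveI := finite_G
  obtain ⟨hs, hDp, hr, ha, hm, hb, hb2, hQ⟩ := cert2_shape
  have hs2 := Tails.exists_slp psiN hw (base_mem slp2_base) slp2_ok
  choose y hy using Tails.exists_pick psiN hw hs2 pick2_ok.1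
  choose g hg using Tails.exists_pick psiN hw hs2 pick2_ok.2
  have := Tails.factorization_card_ker_le_two cert2 second2 cert2_eqs cert2_comb hs hDp hm y
    (Tails.rel_of_check psiN psiN_injective hw hy rels2_ok) g
    (Tails.fus_of_check psiN psiN_injective hw hy hg fus2_ok)
    ((congrArg (2 ^ ·) hr).trans_le (Tails.card_tailGen_ge_of_chain psiN hw hy psiN_injective chain2_ok))
    ((congrArg (2 ^ ·) ha).trans_le (Tails.card_tailGen_ge_of_chain psiN hw hy psiN_injective chain2in_ok))
    (by rw [hr, card_PSU6]; exact hQ) Γ σ hσ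
  rwa [hb, hb2] at this

theorem factorization_three (Γ : Type) [Group Γ] [Finite Γ] (σ : Γ →* G) (hσ : Cfsg.IsStemExtension σ) :
    (Nat.card σ.ker).factorization 3 ≤ (3 : ℕ).factorization 3 := by
  haveI := Fact.mk Nat.prime_three
  haveI := finite_G
  obtain ⟨hs, hDp, hr, ha, hm, hb, hQ⟩ := cert3_shape
  have hs3 := Tails.exists_slp psiN hw (base_mem slp3_base) slp3_ok
  choose y hy using Tails.exists_pick psiN hw hs3 pick3_ok.1
  choose g hg using Tails.exists_pick psiN hw hs3 pick3_ok.2
  have := Tails.factorization_card_ker_le cert3 cert3_eqs cert3_comb hs hDp hm y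
    (Tails.rel_of_check psiN psiN_injective hw hy rels3_ok) g
    (Tails.fus_of_check psiN psiN_injective hw hy hg fus3_ok)
    ((congrArg (3 ^ ·) hr).trans_le (Tails.card_tailGen_ge_of_chain psiN hw hy psiN_injective chain3_ok))
    ((congrArg (3 ^ ·) ha).trans_le (Tails.card_tailGen_ge_of_chain psiN hw hy psiN_injective chain3in_ok))
    (by rw [hr, card_PSU6]; exact hQ) Γ σ hσ
  rwa [hb] at this

theorem factorization_big (Γ : Type) [Group Γ] [Finite Γ] (σ : Γ →* G) (hσ : Cfsg.IsStemExtension σ)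
    {m : ℕ} (hmp : m.Prime) {j : ℕ} (hj : j < 3) (hm : [5, 7, 11].getD j 0 = m)
    (hm2 : ¬ m ^ 2 ∣ 9196830720) : (Nat.card σ.ker).factorization m = 0 := by
  haveI := Fact.mk hmp
  haveI := finite_G
  obtain ⟨h1, h2, h3⟩ := ord_ok
  have h := List.all_eq_true.1 h2 j (List.mem_range.2 hj)
  simp only [Bool.and_eq_true, Bool.not_eq_true', beq_eq_false_iff_ne, beq_iff_eq, hm] at h
  have hmem := Tails.exists_pick psiN hw (Tails.exists_slp psiN hw (base_mem slp3_base) slp3_ok) h1 j
  have hd : ordK.getD j (oneK 10 694) = ordK.getD j 0 := by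
    rw [List.getD_eq_getElem _ _ (h3 ▸ hj), List.getD_eq_getElem _ _ (h3 ▸ hj)]
  rw [hd] at hmem
  obtain ⟨q, hq⟩ := Tails.exists_orderOf psiN hw psiN_injective hmem h.1.1 h.1.2 h.2
  exact Tails.factorization_card_ker_of_orderOf σ hσ q (k := 1) (by rw [hq, pow_one]) (by rwa [card_PSU6])

theorem factorization_twelve : (12 : ℕ).factorization 2 = 2 ∧ (12 : ℕ).factorization 3 = 1 ∧
    (2 * 2 : ℕ).factorization 2 = 2 ∧ (3 : ℕ).factorization 3 = 1 := by
  have e4 : (2 * 2 : ℕ).factorization 2 = 2 := by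
    rw [show (2 * 2 : ℕ) = 2 ^ 2 by norm_num, Nat.prime_two.factorization_pow]; simp
  refine ⟨?_, ?_, e4, Nat.prime_three.factorization_self⟩ <;>
    rw [show (12 : ℕ) = 2 ^ 2 * 3 ^ 1 by norm_num,
      Nat.factorization_mul (by norm_num) (by norm_num), Nat.prime_two.factorization_pow,
      Nat.prime_three.factorization_pow] <;> simp

theorem card_ker_bound (Γ : Type) [Group Γ] [Finite Γ] (σ : Γ →* G) (hσ : Cfsg.IsStemExtension σ) :
    Nat.card σ.ker ≤ 12 := by
  haveI := finite_G
  refine Tails.card_ker_le σ hσ (by norm_num) fun p hp hd => ?_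
  rw [card_PSU6] at hd
  have h1 : p ∣ 2 ^ 15 * 3 ^ 6 * 5 * 7 * 11 := hd
  have q : ∀ r : ℕ, r.Prime → p ∣ r → p = r := fun r hr h => (Nat.prime_dvd_prime_iff_eq hp hr).1 h
  simp only [Nat.Prime.dvd_mul hp] at h1
  obtain ⟨f2, f3, e2, e3⟩ := factorization_twelve
  rcases h1 with (((h1 | h1) | h1) | h1) | h1
  · rw [q 2 Nat.prime_two (hp.dvd_of_dvd_pow h1), f2]
    exact (factorization_two Γ σ hσ).trans_eq e2
  · rw [q 3 Nat.prime_three (hp.dvd_of_dvd_pow h1), f3]
    exact (factorization_three Γ σ hσ).trans_eq e3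
  · rw [q 5 (by norm_num) h1,
      factorization_big Γ σ hσ (m := 5) (j := 0) (by norm_num) (by norm_num) rfl (by norm_num)]
    exact Nat.zero_le _
  · rw [q 7 (by norm_num) h1,
      factorization_big Γ σ hσ (m := 7) (j := 1) (by norm_num) (by norm_num) rfl (by norm_num)]
    exact Nat.zero_le _
  · rw [q 11 (by norm_num) h1,
      factorization_big Γ σ hσ (m := 11) (j := 2) (by norm_num) (by norm_num) rfl (by norm_num)]
    exact Nat.zero_le _

theorem finite_gam : Finite Gam := by
  haveI := finite_G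
  haveI : Finite sigma.ker := Finite.of_equiv _ kerEquiv.toEquiv.symm
  haveI : Finite (Gam ⧸ sigma.ker) :=
    Finite.of_equiv _ (QuotientGroup.quotientKerEquivOfSurjective sigma sigma_surjective).toEquiv.symm
  exact Finite.of_subgroup_quotient sigma.ker

theorem card_mult : Nat.card Mult = 12 := by simp [Nat.card_prod]

theorem hasMultiplier : Cfsg.HasSchurMultiplier G Mult := by
  haveI := finite_G
  haveI := finite_gam
  exact Basic.hasSchurMultiplier_of_le sigma isStem kerEquiv
    fun Δ _ _ τ hτ => (card_ker_bound Δ τ hτ).trans (le_of_eq card_mult.symm)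

/-- Projective unitary groups over isomorphic fields are isomorphic. -/
noncomputable def psuEquiv {F : Type*} [Field F] (e : F4 ≃+* F) : G ≃* Cfsg.PSU 6 F 2 :=
  let f := CfsgLib.Chevalley.G2Two.suCongr e 6 2
  QuotientGroup.congr (Subgroup.center _) (Subgroup.center _) f
    (Subgroup.ext fun x => by
      simp only [Subgroup.mem_map, Subgroup.mem_center_iff]
      refine ⟨?_, fun h => ⟨f.symm x, fun g => f.injective ?_, f.apply_symm_apply x⟩⟩
      · rintro ⟨y, hy, rfl⟩ g
        obtain ⟨g, rfl⟩ := f.surjective g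
        exact (map_mul f g y).symm.trans ((congrArg f (hy g)).trans (map_mul f y g))
      · rw [map_mul, map_mul, f.apply_symm_apply]; exact h (f g))

/-- Over any field with four elements. -/
theorem hasMultiplier_group {F : Type*} [Field F] [Fintype F] (hF : Fintype.card F = 4) :
    Cfsg.HasSchurMultiplier (Cfsg.PSU 6 F 2) Mult := by
  haveI := finite_G
  exact Basic.hasSchurMultiplier_of_mulEquiv (psuEquiv (FiniteField.ringEquivOfCardEq
    (CfsgLib.Sporadic.FieldFour.card_eq.trans hF.symm))) hasMultiplier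

end CfsgLib.Schur.PSUSixTwo
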