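import Cfsg.Agent.Lib.Sporadic.FiUnitaryModel
import Cfsg.Agent.Lib.Schur.PSUSixTwo.Data
import Cfsg.Agent.Lib.Schur.TailsPerm

/-!
`PSU₆(2)` as permutations of the isotropic points, and a diagonal automorphism.
-/

set_option autoImplicit false
set_option maxRecDepth 100000

namespace CfsgLib.Schur.PSUSixTwo

open CfsgLib.Sporadic.CosetCert CfsgLib.Sporadic.CosetCert.FiP Matrix Cfsg.Spor

attribute [local irreducible] vecPt ptVec matU pointOf rowU

/-- The field. -/
abbrev F4 : Type := CfsgLib.Sporadic.FieldFour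

/-- The group. -/
abbrev G : Type := Cfsg.PSU 6 F4 2

theorem finite_G : Finite G := Nat.finite_of_card_ne_zero (by rw [card_PSU6]; norm_num)

/-- The action on the points. -/
noncomputable def psi : G →* Equiv.Perm (Fin NU) :=
  QuotientGroup.lift (Subgroup.center SU6) suAct suAct_ker.ge

theorem psi_mk (g : SU6) : psi (QuotientGroup.mk g) = suAct g := rfl

theorem psi_injective : Function.Injective psi := by
  intro a b
  induction a using QuotientGroup.induction_on with
  | _ a =>
  induction b using QuotientGroup.induction_on with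
  | _ b =>
  intro h
  rw [psi_mk, psi_mk] at h
  rw [QuotientGroup.eq, ← suAct_ker, MonoidHom.mem_ker, map_mul, map_inv, h, inv_mul_cancel]

theorem psi_toPSU6 (x : grpH) : psi (toPSU6 x) = actU x := by
  have key : ∀ r : suAct.range, psi (QuotientGroup.quotientMulEquivOfEq suAct_ker
      ((QuotientGroup.quotientKerEquivRange suAct).symm r)) = (r : Equiv.Perm (Fin NU)) := by
    rintro ⟨_, g, rfl⟩
    have e : (QuotientGroup.quotientKerEquivRange suAct).symm ⟨suAct g, g, rfl⟩ = QuotientGroup.mk g := by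
      rw [MulEquiv.symm_apply_eq]; rfl
    rw [e]
    rfl
  exact key _

theorem toPSU6_gen (i : ℕ) (hi : i < 9) : toPSU6 (genU i) = QuotientGroup.mk (suGen i) :=
  psi_injective (by rw [psi_toPSU6, psi_mk, suAct_gen i hi])

theorem toPSU6_word : ∀ L : List ℕ, (∀ x ∈ L, x < 9) →
    toPSU6 (appProd genU L) = QuotientGroup.mk (appProd suGen L)
  | [], _ => map_one _
  | x :: t, h => by
    show toPSU6 (appProd genU t * genU x) = QuotientGroup.mk (appProd suGen t * suGen x)
    rw [map_mul, toPSU6_word t fun y hy => h y (List.mem_cons_of_mem _ hy),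
      toPSU6_gen x (h x List.mem_cons_self)]
    rfl

/-- The image of a point under a word. -/
noncomputable def imgW (L : List ℕ) (p : ℕ) : ℕ :=
  L.foldl (fun w x => FiUnitaryData.table.img x w) p

theorem psi_word : ∀ L : List ℕ, (∀ x ∈ L, x < 9) → ∀ p : Fin NU,
    (psi (toPSU6 (appProd genU L)) p : ℕ) = imgW L p
  | [], _, p => by simp [appProd, imgW]
  | x :: t, h, p => by
    show (psi (toPSU6 (appProd genU t * genU x)) p : ℕ) = imgW (x :: t) p
    rw [map_mul, map_mul, Equiv.Perm.mul_apply, psi_word t (fun y hy => h y (List.mem_cons_of_mem _ hy)),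
      psi_toPSU6 (genU x), actU_acts.img_eq x (h x List.mem_cons_self) p]
    rfl

/-- The diagonal matrix with one entry `ω`. -/
def dVec : Fin 6 → F4 := fun k => if k = 0 then CfsgLib.Sporadic.FieldFour.ofCode 2 else 1

/-- Its inverse. -/
def dInv : Fin 6 → F4 := fun k => if k = 0 then CfsgLib.Sporadic.FieldFour.ofCode 3 else 1

theorem dVec_mul : ∀ k, dVec k * dInv k = 1 ∧ dInv k * dVec k = 1 := by decide

theorem dVec_norm : ∀ k, ∀ a b : F4, (dVec k * a) * (dVec k * b) ^ 2 = a * b ^ 2 ∧
    (dInv k * a) * (dInv k * b) ^ 2 = a * b ^ 2 := by decide +kernel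

theorem diag_herm {f : Fin 6 → F4} (hf : ∀ k, ∀ a b : F4, (f k * a) * (f k * b) ^ 2 = a * b ^ 2) (u v : VecSix) :
    Cfsg.hermForm 6 F4 2 (diagonal f *ᵥ u) (diagonal f *ᵥ v) = Cfsg.hermForm 6 F4 2 u v := by
  simp only [Cfsg.hermForm, mulVec_diagonal, hf]

theorem diag_mul {f g : Fin 6 → F4} (h : ∀ k, f k * g k = 1) : diagonal f * diagonal g = 1 := by
  rw [diagonal_mul_diagonal, show (fun k => f k * g k) = fun _ => 1 from funext h]
  exact diagonal_one

/-- Conjugation by a diagonal matrix. -/
noncomputable def conjDiag (f g : Fin 6 → F4) (hfg : ∀ k, f k * g k = 1)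
    (hf : ∀ k, ∀ a b : F4, (f k * a) * (f k * b) ^ 2 = a * b ^ 2)
    (hg : ∀ k, ∀ a b : F4, (g k * a) * (g k * b) ^ 2 = a * b ^ 2) : SU6 →* SU6 where
  toFun x := ⟨⟨diagonal f * suMat x * diagonal g, by
      rw [det_mul, det_mul, mul_right_comm, ← det_mul, diag_mul hfg, det_one, one_mul]
      exact x.1.2⟩, fun u v => by
    show Cfsg.hermForm 6 F4 2 ((diagonal f * suMat x * diagonal g) *ᵥ u)
      ((diagonal f * suMat x * diagonal g) *ᵥ v) = _
    simp only [← mulVec_mulVec]
    rw [diag_herm hf, x.2, diag_herm hg]⟩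
  map_one' := Subtype.ext (Subtype.ext (by
    show diagonal f * 1 * diagonal g = 1
    rw [mul_one, diag_mul hfg]))
  map_mul' x y := Subtype.ext (Subtype.ext (by
    show diagonal f * (suMat x * suMat y) * diagonal g =
      diagonal f * suMat x * diagonal g * (diagonal f * suMat y * diagonal g)
    have e : diagonal g * diagonal f = 1 := diag_mul fun k => (mul_comm _ _).trans (hfg k)
    simp only [mul_assoc]
    rw [← mul_assoc (diagonal g) (diagonal f), e, one_mul]))

/-- The diagonal automorphism of the special unitary group. -/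
noncomputable def tauSU : SU6 →* SU6 :=
  conjDiag dVec dInv (fun k => (dVec_mul k).1) (fun k a b => (dVec_norm k a b).1) fun k a b => (dVec_norm k a b).2

/-- Its inverse. -/
noncomputable def tauInv : SU6 →* SU6 :=
  conjDiag dInv dVec (fun k => (dVec_mul k).2) (fun k a b => (dVec_norm k a b).2) fun k a b => (dVec_norm k a b).1

theorem tauSU_inv (x : SU6) : tauSU (tauInv x) = x := by
  refine Subtype.ext (Subtype.ext ?_)
  show diagonal dVec * (diagonal dInv * suMat x * diagonal dVec) * diagonal dInv = suMat x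
  simp only [← mul_assoc]
  rw [diag_mul fun k => (dVec_mul k).1, one_mul, mul_assoc, diag_mul fun k => (dVec_mul k).1, mul_one]

theorem tauSU_center : Subgroup.center SU6 ≤ (Subgroup.center SU6).comap tauSU := by
  intro z hz
  rw [Subgroup.mem_comap, Subgroup.mem_center_iff]
  intro g
  rw [← tauSU_inv g, ← map_mul, ← map_mul, Subgroup.mem_center_iff.1 hz]

/-- The diagonal automorphism of the projective group. -/
noncomputable def tauQ : G →* G :=
  QuotientGroup.map (Subgroup.center SU6) (Subgroup.center SU6) tauSU tauSU_center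

theorem tauInv_tauSU (x : SU6) : tauInv (tauSU x) = x := by
  refine Subtype.ext (Subtype.ext ?_)
  show diagonal dInv * (diagonal dVec * suMat x * diagonal dInv) * diagonal dVec = suMat x
  simp only [← mul_assoc]
  rw [diag_mul fun k => (dVec_mul k).2, one_mul, mul_assoc, diag_mul fun k => (dVec_mul k).2, mul_one]

theorem tauQ_bijective : Function.Bijective tauQ := by
  constructor
  · intro a b
    induction a using QuotientGroup.induction_on with
    | _ x =>
    induction b using QuotientGroup.induction_on with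
    | _ y =>
    intro h
    have h' : (tauSU x)⁻¹ * tauSU y ∈ Subgroup.center SU6 := QuotientGroup.eq.1 h
    refine QuotientGroup.eq.2 (Subgroup.mem_center_iff.2 fun g => ?_)
    have := congrArg tauInv (Subgroup.mem_center_iff.1 h' (tauSU g))
    simpa only [map_mul, map_inv, tauInv_tauSU] using this
  · intro a
    induction a using QuotientGroup.induction_on with
    | _ x => exact ⟨QuotientGroup.mk (tauInv x), congrArg QuotientGroup.mk (tauSU_inv x)⟩

/-- The permutation of the points by the diagonal matrix, as a map. -/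
noncomputable def deltaN (p : ℕ) : ℕ := vecPt (diagonal dVec *ᵥ ptVec p)

theorem vecPt_push (M : Matrix (Fin 6) (Fin 6) F4)
    (hM : ∀ u v : VecSix, Cfsg.hermForm 6 F4 2 (M *ᵥ u) (M *ᵥ v) = Cfsg.hermForm 6 F4 2 u v) (w : VecSix) :
    vecPt (M *ᵥ ptVec (vecPt w)) = vecPt (M *ᵥ w) := by
  by_cases h0 : Cfsg.hermForm 6 F4 2 w w = 0
  · obtain ⟨k, hk, e⟩ := (vecPt_spec w).2.2.1 h0
    rw [← e, mulVec_smul, (vecPt_spec _).2.1 k hk]
  · rw [(vecPt_spec w).2.2.2 h0, ptVec_last.1, mulVec_zero, ptVec_last.2]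
    refine ((vecPt_spec _).2.2.2 ?_).symm
    rw [hM]
    exact h0

theorem psi_tau (g : SU6) (p : Fin NU) :
    (psi (tauQ (QuotientGroup.mk g)) ⟨deltaN p, (vecPt_spec _).1⟩ : ℕ) =
      deltaN (psi (QuotientGroup.mk g) p) := by
  show vecPt (suMat (tauSU g) *ᵥ ptVec (vecPt (diagonal dVec *ᵥ ptVec p))) =
    vecPt (diagonal dVec *ᵥ ptVec (vecPt (suMat g *ᵥ ptVec p)))
  rw [vecPt_push _ (fun u v => (tauSU g).2 u v), vecPt_push _ (diag_herm fun k a b => (dVec_norm k a b).1)]
  congr 1
  show (diagonal dVec * suMat g * diagonal dInv) *ᵥ (diagonal dVec *ᵥ ptVec p) =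
    diagonal dVec *ᵥ (suMat g *ᵥ ptVec p)
  rw [mulVec_mulVec, mul_assoc, diag_mul (f := dInv) (g := dVec) fun k => (dVec_mul k).2, mul_one,
    ← mulVec_mulVec]

theorem delta_surjective (p : Fin NU) : ∃ q : Fin NU, (deltaN q : ℕ) = p := by
  refine ⟨⟨vecPt (diagonal dInv *ᵥ ptVec p), (vecPt_spec _).1⟩, ?_⟩
  show vecPt (diagonal dVec *ᵥ ptVec (vecPt (diagonal dInv *ᵥ ptVec p))) = p
  rw [vecPt_push _ (diag_herm fun k a b => (dVec_norm k a b).1), mulVec_mulVec,
    diag_mul fun k => (dVec_mul k).1, one_mulVec]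
  exact vecPt_ptVec p.2

/-- A word is the conjugate of another. -/
noncomputable def twistK (L L' : List ℕ) : Bool :=
  (L.all fun x => Nat.blt x 9) && (L'.all fun x => Nat.blt x 9) &&
    allBelow (fun p => Nat.beq (imgW L' (deltaN p)) (deltaN (imgW L p))) 694

theorem twist_of_check {L L' : List ℕ} (h : twistK L L' = true) :
    toPSU6 (appProd genU L') = tauQ (QuotientGroup.mk (appProd suGen L)) := by
  simp only [twistK, Bool.and_eq_true, List.all_eq_true, Nat.blt_eq] at h
  obtain ⟨⟨hL, hL'⟩, h⟩ := h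
  refine psi_injective (Equiv.ext fun p => Fin.ext ?_)
  obtain ⟨q, hq⟩ := delta_surjective p
  have e : p = ⟨deltaN q, (vecPt_spec _).1⟩ := Fin.ext hq.symm
  have hq' : (q : ℕ) < 694 := lt_of_lt_of_eq q.2 rfl
  rw [e, psi_word L' hL', psi_tau, ← toPSU6_word L hL, psi_word L hL]
  exact Nat.eq_of_beq_eq_true (of_allBelow h q hq')

end CfsgLib.Schur.PSUSixTwo
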